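import Mathlib.RingTheory.MvPowerSeries.Substitution
import Mathlib.RingTheory.MvPowerSeries.Order
import Mathlib.Tactic.LinearCombination

/-!
Fixed points `B = g - h(B)` of formal substitutions with `h` of order at least two, and the formal
inverse function theorem for substitutions with unit diagonal linear part.
-/

set_option autoImplicit false

namespace Groth.Agent.MvInv51

open MvPowerSeries

variable {R : Type*} [CommRing R] {σ τ : Type*}

/-- The power series of order at least `n`. -/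
def J (n : ℕ) : Ideal (MvPowerSeries τ R) where
  carrier := {f | (n : ℕ∞) ≤ f.order}
  add_mem' ha hb := le_trans (le_min ha hb) min_order_le_add
  zero_mem' := by simp
  smul_mem' c f hf := le_trans hf (le_add_self.trans le_order_mul)

lemma mem_J {n : ℕ} {f : MvPowerSeries τ R} :
    f ∈ J n ↔ ∀ e : τ →₀ ℕ, e.degree < n → coeff e f = 0 :=
  ⟨fun h _ he => coeff_of_lt_order (lt_of_lt_of_le (Nat.cast_lt.2 he) h), nat_le_order⟩

lemma J_antitone {m n : ℕ} (h : m ≤ n) {f : MvPowerSeries τ R} (hf : f ∈ J n) : f ∈ J m :=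
  le_trans (Nat.cast_le.2 h) (show (n : ℕ∞) ≤ f.order from hf)

lemma mem_J_zero (f : MvPowerSeries τ R) : f ∈ J (R := R) 0 :=
  mem_J.2 fun _ he => absurd he (Nat.not_lt_zero _)

lemma mul_mem_J {m n : ℕ} {f g : MvPowerSeries τ R} (hf : f ∈ J m) (hg : g ∈ J n) :
    f * g ∈ J (m + n) :=
  le_trans (le_of_eq_of_le (Nat.cast_add m n)
    (add_le_add (show (m : ℕ∞) ≤ _ from hf) (show (n : ℕ∞) ≤ _ from hg))) le_order_mul

lemma mem_J_one {f : MvPowerSeries τ R} : f ∈ J (R := R) 1 ↔ constantCoeff f = 0 := by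
  rw [← one_le_order_iff_constCoeff_eq_zero]
  exact Nat.cast_one (R := ℕ∞) ▸ Iff.rfl

lemma X_mem_J_one (i : τ) : (X i : MvPowerSeries τ R) ∈ J (R := R) 1 :=
  mem_J_one.2 (constantCoeff_X i)

lemma eq_of_forall_sub_mem_J {f g : MvPowerSeries τ R} (h : ∀ n, f - g ∈ J n) : f = g := by
  ext e
  have := mem_J.1 (h (e.degree + 1)) e (Nat.lt_succ_self _)
  rwa [map_sub, sub_eq_zero] at this

lemma prod_sub_prod_mem_J {n : ℕ} {b b' : σ → MvPowerSeries τ R} (hb : ∀ i, b i ∈ J 1)
    (hb' : ∀ i, b' i ∈ J 1) (hbb' : ∀ i, b i - b' i ∈ J n) (d : σ →₀ ℕ) :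
    d.prod (fun s k => b s ^ k) ∈ J d.degree ∧ d.prod (fun s k => b' s ^ k) ∈ J d.degree ∧
      d.prod (fun s k => b s ^ k) - d.prod (fun s k => b' s ^ k) ∈ J (n + d.degree - 1) := by
  classical
  let P : ℕ → MvPowerSeries τ R → MvPowerSeries τ R → Prop := fun k x y =>
    x ∈ J k ∧ y ∈ J k ∧ (k = 0 → x = y) ∧ x - y ∈ J (n + k - 1)
  have h0 : P 0 1 1 := ⟨mem_J_zero _, mem_J_zero _, fun _ => rfl, by simp⟩
  have hmul : ∀ {k k' x y x' y'}, P k x y → P k' x' y' → P (k + k') (x * x') (y * y') := by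
    rintro k k' x y x' y' ⟨hx, hy, he, hd⟩ ⟨hx', hy', he', hd'⟩
    refine ⟨mul_mem_J hx hx', mul_mem_J hy hy', fun h => ?_, ?_⟩
    · rw [he (by omega), he' (by omega)]
    · rw [show x * x' - y * y' = x * (x' - y') + (x - y) * y' by ring]
      refine add_mem ?_ ?_
      · by_cases hk : k' = 0
        · simp [he' hk]
        · exact J_antitone (by omega) (mul_mem_J hx hd')
      · by_cases hk : k = 0
        · simp [he hk]
        · exact J_antitone (by omega) (mul_mem_J hd hy')
  suffices P d.degree (d.prod fun s k => b s ^ k) (d.prod fun s k => b' s ^ k) from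
    ⟨this.1, this.2.1, this.2.2.2⟩
  induction d using Finsupp.induction_linear with
  | zero => simpa using h0
  | add d d' hd hd' =>
    have := hmul hd hd'
    rw [map_add, Finsupp.prod_add_index' (fun _ => pow_zero _) (fun _ _ _ => pow_add _ _ _),
      Finsupp.prod_add_index' (fun _ => pow_zero _) (fun _ _ _ => pow_add _ _ _)]
    exact this
  | single s k =>
    rw [Finsupp.prod_single_index (h := fun s k => b s ^ k) (pow_zero _),
      Finsupp.prod_single_index (h := fun s k => b' s ^ k) (pow_zero _), Finsupp.degree_single]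
    induction k with
    | zero => simpa using h0
    | succ k ih =>
      rw [pow_succ, pow_succ]
      exact hmul ih ⟨hb s, hb' s, fun h => absurd h one_ne_zero, by simpa using hbb' s⟩

variable [Finite σ]

lemma hasSubst_of_mem_J_one {b : σ → MvPowerSeries τ R} (hb : ∀ i, b i ∈ J 1) : HasSubst b :=
  hasSubst_of_constantCoeff_zero fun i => mem_J_one.1 (hb i)

lemma subst_sub_subst_mem_J {n : ℕ} {b b' : σ → MvPowerSeries τ R} (hb : ∀ i, b i ∈ J 1)
    (hb' : ∀ i, b' i ∈ J 1) (hbb' : ∀ i, b i - b' i ∈ J n)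
    {h : MvPowerSeries σ R} (hh : h ∈ J 2) : subst b h - subst b' h ∈ J (n + 1) := by
  rw [mem_J]
  intro e he
  have h1 := hasSubst_of_mem_J_one hb
  have h2 := hasSubst_of_mem_J_one hb'
  rw [map_sub, coeff_subst h1, coeff_subst h2,
    ← finsum_sub_distrib (coeff_subst_finite h1 h e) (coeff_subst_finite h2 h e)]
  refine finsum_eq_zero_of_forall_eq_zero fun d => ?_
  rw [← smul_sub, ← map_sub]
  by_cases hd : d.degree < 2
  · rw [mem_J.1 hh d hd, zero_smul]
  · rw [mem_J.1 (prod_sub_prod_mem_J hb hb' hbb' d).2.2 e (by omega), smul_zero]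

lemma subst_mem_J_two {b : σ → MvPowerSeries τ R} (hb : ∀ i, b i ∈ J 1)
    {h : MvPowerSeries σ R} (hh : h ∈ J 2) : subst b h ∈ J 2 := by
  rw [mem_J]
  intro e he
  rw [coeff_subst (hasSubst_of_mem_J_one hb)]
  refine finsum_eq_zero_of_forall_eq_zero fun d => ?_
  by_cases hd : d.degree < 2
  · rw [mem_J.1 hh d hd, zero_smul]
  · rw [mem_J.1 (prod_sub_prod_mem_J (n := 0) hb hb (fun i => by simp)
      d).1 e (by omega), smul_zero]

/-- The successive approximations of a solution of `B = g - h(B)`. -/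
noncomputable def approx (g : σ → MvPowerSeries τ R) (h : σ → MvPowerSeries σ R) :
    ℕ → σ → MvPowerSeries τ R
  | 0 => fun _ => 0
  | m + 1 => fun i => g i - subst (approx g h m) (h i)

omit [Finite σ] in
lemma approx_zero (g : σ → MvPowerSeries τ R) (h : σ → MvPowerSeries σ R) (i : σ) :
    approx g h 0 i = 0 := rfl

omit [Finite σ] in
lemma approx_succ (g : σ → MvPowerSeries τ R) (h : σ → MvPowerSeries σ R) (m : ℕ) (i : σ) :
    approx g h (m + 1) i = g i - subst (approx g h m) (h i) := rfl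

attribute [local irreducible] approx

/-- `B = g - h(B)` has a solution when `h` has order at least two. -/
theorem exists_fixedPoint (g : σ → MvPowerSeries τ R) (hg : ∀ i, g i ∈ J 1)
    (h : σ → MvPowerSeries σ R) (hh : ∀ i, h i ∈ J 2) :
    ∃ B : σ → MvPowerSeries τ R, (∀ i, B i ∈ J 1) ∧ ∀ i, B i = g i - subst B (h i) := by
  obtain ⟨b, b_zero, b_succ⟩ : ∃ b : ℕ → σ → MvPowerSeries τ R, (∀ i, b 0 i = 0) ∧
      ∀ m i, b (m + 1) i = g i - subst (b m) (h i) :=
    ⟨approx g h, approx_zero g h, approx_succ g h⟩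
  have hb1 : ∀ m i, b m i ∈ J 1 := by
    intro m
    induction m with
    | zero => exact fun i => b_zero i ▸ zero_mem _
    | succ m ih =>
      intro i
      rw [b_succ]
      exact sub_mem (hg i) (J_antitone one_le_two (subst_mem_J_two ih (hh i)))
  have hstep : ∀ m i, b (m + 1) i - b m i ∈ J (m + 1) := by
    intro m
    induction m with
    | zero => exact fun i => sub_mem (hb1 1 i) (hb1 0 i)
    | succ m ih =>
      intro i
      rw [b_succ, b_succ m, sub_sub_sub_cancel_left]
      exact subst_sub_subst_mem_J (hb1 m) (hb1 _) (fun j => by simpa using neg_mem (ih j)) (hh i)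
  have hstable : ∀ m m' i, m ≤ m' → b m' i - b m i ∈ J (m + 1) := by
    intro m m' i hm
    induction hm with
    | refl => simp
    | @step k hk ih =>
      rw [show b (k + 1) i - b m i = (b (k + 1) i - b k i) + (b k i - b m i) by ring]
      exact add_mem (J_antitone (Nat.succ_le_succ hk) (hstep k i)) ih
  let B : σ → MvPowerSeries τ R := fun i e => coeff e (b e.degree i)
  have hB : ∀ m i, B i - b m i ∈ J (m + 1) := by
    intro m i
    rw [mem_J]
    intro e he
    have := mem_J.1 (hstable e.degree m i (by omega)) e (Nat.lt_succ_self _)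
    rw [map_sub, sub_eq_zero] at this
    rw [map_sub, sub_eq_zero]
    exact this.symm
  have hB1 : ∀ i, B i ∈ J 1 := fun i => by simpa using add_mem (hB 0 i) (hb1 0 i)
  refine ⟨B, hB1, fun i => eq_of_forall_sub_mem_J fun n => ?_⟩
  rw [show B i - (g i - subst B (h i)) =
    (B i - b (n + 1) i) + (subst B (h i) - subst (b n) (h i)) by
      rw [b_succ]; ring]
  exact add_mem (J_antitone (by omega) (hB _ i))
    (J_antitone (by omega) (subst_sub_subst_mem_J hB1 (hb1 n) (hB n) (hh i)))

lemma exists_leftInverse (a : σ → MvPowerSeries σ R) (c : σ → Rˣ)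
    (ha : ∀ i, a i - C (c i : R) * X i ∈ J 2) :
    ∃ B : σ → MvPowerSeries σ R, (∀ i, B i - C ((c i)⁻¹ : Rˣ).val * X i ∈ J 2) ∧
      (∀ i, B i ∈ J 1) ∧ ∀ i, subst B (a i) = X i := by
  obtain ⟨B, hB1, hB⟩ := exists_fixedPoint (fun i => C ((c i)⁻¹ : Rˣ).val * X i)
    (fun i => Ideal.mul_mem_left _ _ (X_mem_J_one i))
    (fun i => C ((c i)⁻¹ : Rˣ).val * (a i - C (c i : R) * X i))
    (fun i => Ideal.mul_mem_left _ _ (ha i))
  have hs := hasSubst_of_mem_J_one hB1
  refine ⟨B, fun i => ?_, hB1, fun i => ?_⟩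
  · rw [hB i]
    simpa using subst_mem_J_two hB1
      (Ideal.mul_mem_left _ (C ((c i)⁻¹ : Rˣ).val) (ha i))
  · have h := hB i
    rw [subst_mul hs, subst_sub hs, subst_mul hs, subst_C, subst_C, subst_X hs] at h
    have hc : (C (c i : R) : MvPowerSeries σ R) * C ((c i)⁻¹ : Rˣ).val = 1 := by
      rw [← map_mul, Units.mul_inv, map_one]
    linear_combination C (c i : R) * h - (subst B (a i) - C (c i : R) * B i - X i) * hc

/-- Formal inverse function theorem. -/
theorem exists_algEquiv (a : σ → MvPowerSeries σ R) (c : σ → Rˣ)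
    (ha : ∀ i, a i - C (c i : R) * X i ∈ J 2) :
    ∃ φ : MvPowerSeries σ R ≃ₐ[R] MvPowerSeries σ R, ∀ f, φ (subst a f) = f := by
  obtain ⟨B, hB, hB1, hBa⟩ := exists_leftInverse a c ha
  obtain ⟨B', hB', hB'1, hB'B⟩ := exists_leftInverse B (fun i => (c i)⁻¹) hB
  have ha1 : ∀ i, a i ∈ J 1 := fun i => by
    simpa using add_mem (J_antitone one_le_two (ha i))
      (Ideal.mul_mem_left (J (R := R) 1) (C (c i : R)) (X_mem_J_one i))
  have hsa := hasSubst_of_mem_J_one ha1
  have hsB := hasSubst_of_mem_J_one hB1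
  have hsB' := hasSubst_of_mem_J_one hB'1
  have h1 : ∀ f, subst B (subst a f) = f := fun f => by
    rw [subst_comp_subst_apply hsa hsB, show (fun s => subst B (a s)) = X from funext hBa,
      subst_self, id]
  have h2 : ∀ f, subst B' (subst B f) = f := fun f => by
    rw [subst_comp_subst_apply hsB hsB', show (fun s => subst B' (B s)) = X from funext hB'B,
      subst_self, id]
  have h3 : ∀ f : MvPowerSeries σ R, subst a f = subst B' f := fun f => by
    rw [← h2 (subst a f), h1]
  have h4 : ∀ f : MvPowerSeries σ R, subst a (subst B f) = f := fun f => by rw [h3, h2]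
  refine ⟨AlgEquiv.ofBijective (substAlgHom (R := R) hsB) ⟨?_, fun f => ⟨subst a f, ?_⟩⟩, fun f => ?_⟩
  · exact Function.LeftInverse.injective (g := subst a) fun f => by rw [substAlgHom_apply, h4]
  · rw [substAlgHom_apply, h1]
  · change substAlgHom (R := R) hsB (subst a f) = f
    rw [substAlgHom_apply, h1]

end Groth.Agent.MvInv51
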