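import Groth.Agent.MvInv51.Basic
import Mathlib.Algebra.CharP.Two
import Mathlib.Algebra.CharP.Algebra

set_option autoImplicit false

namespace Groth.Agent.MvInv51

open MvPowerSeries

variable {R : Type*} [CommRing R] [CharP R 2] {τ : Type*}

lemma two_eq_zero_mvPowerSeries : (2 : MvPowerSeries τ R) = 0 := by
  rw [← map_ofNat (C : R →+* MvPowerSeries τ R), CharTwo.two_eq_zero, map_zero]

/-- Cube roots of `1 + g` in characteristic two. -/
lemma exists_cube_root {g : MvPowerSeries τ R} (hg : g ∈ J 1) :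
    ∃ w : MvPowerSeries τ R, w ∈ J 1 ∧ (1 + w) ^ 3 = 1 + g := by
  obtain ⟨B, hB1, hB⟩ := exists_fixedPoint (R := R) (σ := Unit) (fun _ => g) (fun _ => hg)
    (fun _ => X () ^ 2 + X () ^ 3) (fun _ => by
      refine add_mem ?_ ?_
      · simpa [pow_two] using mul_mem_J (X_mem_J_one (R := R) ()) (X_mem_J_one ())
      · rw [show (X () : MvPowerSeries Unit R) ^ 3 = X () * (X () * X ()) by ring]
        exact J_antitone (by omega)
          (mul_mem_J (X_mem_J_one (R := R) ()) (mul_mem_J (X_mem_J_one ()) (X_mem_J_one ()))))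
  refine ⟨B (), hB1 (), ?_⟩
  have hs := hasSubst_of_mem_J_one hB1
  have h : B () = g - (B () ^ 2 + B () ^ 3) := by
    refine (hB ()).trans ?_
    rw [subst_add hs, subst_pow hs, subst_pow hs, subst_X hs]
  linear_combination h + (B () + B () ^ 2) * (two_eq_zero_mvPowerSeries (R := R) (τ := τ))

end Groth.Agent.MvInv51
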